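import Groth.Agent.KFlat.PullTensor
import Groth.Agent.RefStalk.RankOne
import Groth.Agent.RefDiv.Lat
import Groth.Agent.ProjMor.PullSec
import Mathlib

/-!
Inverse images of local generators.
-/

set_option autoImplicit false
set_option linter.style.haveILetI false
set_option backward.isDefEq.respectTransparency false

universe u

open CategoryTheory AlgebraicGeometry TopologicalSpace Opposite
open Groth.Agent.WeakAssLib (mgerm)
open Groth.Agent.KFlat (kap kap_germ kap_smul pull_stalk_ext exists_pull_stalk_desc)
open TMul (IsGen)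

noncomputable section

namespace Groth.Agent.C1Cap

variable {X Y : Scheme.{u}} (f : X ⟶ Y)

/-- The germ of the inverse image of a section. -/
theorem kap_mgerm (M : Y.Modules) {U : Y.Opens} {x : X} (hU : f x ∈ U) (s : Γ(M, U)) :
    kap f x M (mgerm M hU s) =
      mgerm ((Scheme.Modules.pullback f).obj M) (show x ∈ f ⁻¹ᵁ U from hU) (ProjMor.eta f M U s) :=
  kap_germ f x M U hU s

/-- Inverse images of generators generate. -/
theorem isGen_eta {L : Y.Modules} {A : Y.Opens} {e : Γ(L, A)} (he : IsGen e) :
    IsGen (ProjMor.eta f L A e) := by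
  refine RefStalk.isGen_of_stalk fun x hx => ?_
  have hb := RefDiv.bijective_germ_of_isGen he (show f x ∈ A from hx)
  rw [← kap_mgerm f L hx e]
  let E : Y.presheaf.stalk (f x) ≃ₗ[Y.presheaf.stalk (f x)] L.presheaf.stalk (f x) :=
    LinearEquiv.ofBijective (LinearMap.toSpanSingleton _ _ (mgerm L (show f x ∈ A from hx) e)) hb
  let P : ModuleCat.{u} (X.presheaf.stalk x) := ModuleCat.of _ (X.presheaf.stalk x)
  let h : (DerSch.stalkFunctor Y (f.base x)).obj L ⟶ (ModuleCat.restrictScalars (f.stalkMap x).hom).obj P :=
    ModuleCat.ofHom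
      (Y := (ModuleCat.restrictScalars (f.stalkMap x).hom).obj P)
      { toFun := fun v => (f.stalkMap x).hom (E.symm v)
        map_add' := fun a b => (congrArg (f.stalkMap x).hom (map_add E.symm a b)).trans (map_add _ _ _)
        map_smul' := fun r v => (congrArg (f.stalkMap x).hom (map_smul E.symm r v)).trans (map_mul _ _ _) }
  obtain ⟨g, hg⟩ := exists_pull_stalk_desc f x L h
  have h1 : g.hom (kap f x L (mgerm L (show f x ∈ A from hx) e)) = (1 : X.presheaf.stalk x) := by
    refine (hg _).trans ?_
    show (f.stalkMap x).hom (E.symm _) = _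
    rw [show E.symm (mgerm L (show f x ∈ A from hx) e) = 1 from E.symm_apply_eq.2 (one_smul (Y.presheaf.stalk (f x)) (mgerm L (show f x ∈ A from hx) e)).symm, map_one]
  refine ⟨fun a b hab => ?_, fun v => ⟨(g.hom v : X.presheaf.stalk x), ?_⟩⟩
  · have h2 := congrArg g.hom hab
    simp only [map_smul, h1] at h2
    simpa using h2
  · have h3 : g ≫ ModuleCat.ofHom (LinearMap.toSpanSingleton (X.presheaf.stalk x) _
        (kap f x L (mgerm L (show f x ∈ A from hx) e))) = 𝟙 _ := by
      refine pull_stalk_ext f x L fun m => ?_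
      obtain ⟨c, rfl⟩ := hb.2 m
      show (g.hom (kap f x L (c • mgerm L (show f x ∈ A from hx) e)) : X.presheaf.stalk x) • kap f x L _ = _
      rw [kap_smul, map_smul, h1]
      show ((f.stalkMap x).hom c * 1) • _ = _
      rw [mul_one]
      rfl
    exact ConcreteCategory.congr_hom h3 v

end Groth.Agent.C1Cap
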