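import Groth.Agent.RefDiv.Inv
import Groth.Agent.RefDiv.Ideal
import Mathlib

/-!
Changing the rational sections used to cap with a first Chern class changes the result by principal divisors.
-/

set_option autoImplicit false
set_option linter.style.haveILetI false
set_option backward.isDefEq.respectTransparency false

universe u

open CategoryTheory AlgebraicGeometry TopologicalSpace Opposite
open Groth.Agent.QC (res resO res_res res_smul)
open Groth.Agent.WeakAssLib (mgerm mgerm_smul mgerm_res)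
open Groth.Agent.RefStalk (msp msp_germ msp_smul)
open Groth.Agent.RefDiv (bijective_germ_of_isGen span_eq_top_of_surjective exists_smul_of_span)
open TMul (IsGen tm isGen_tm res_tm smul_tm tm_smul)

noncomputable section

namespace Groth.Agent.C1Cap

variable {X : Scheme.{u}}

/-- The residue class map. -/
abbrev rdu (ξ : X) : X.presheaf.stalk ξ →+* X.residueField ξ := (X.residue ξ).hom

theorem ordFrac_mul {R : Type u} [CommRing R] {K : Type u} [Field K] [Algebra R K] {f g : K} (hf : f ≠ 0)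
    (hg : g ≠ 0) : CycAlg.ordFrac R K (f * g) = CycAlg.ordFrac R K f + CycAlg.ordFrac R K g := by
  unfold CycAlg.ordFrac
  split
  · next h =>
    haveI := h.1; haveI := h.2.1; haveI := h.2.2.1; haveI := h.2.2.2
    obtain ⟨a, ha⟩ := WithZero.ne_zero_iff_exists.1 ((map_ne_zero (Ring.ordFrac R (K := K))).2 hf)
    obtain ⟨b, hb⟩ := WithZero.ne_zero_iff_exists.1 ((map_ne_zero (Ring.ordFrac R (K := K))).2 hg)
    rw [map_mul, ← ha, ← hb, ← WithZero.coe_mul]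
    rfl
  · rfl

theorem ordFrac_zero {R : Type u} [CommRing R] {K : Type u} [Field K] [Algebra R K] :
    CycAlg.ordFrac R K (0 : K) = 0 := by
  unfold CycAlg.ordFrac
  split
  · next h =>
    haveI := h.1; haveI := h.2.1; haveI := h.2.2.1; haveI := h.2.2.2
    rw [map_zero]
    rfl
  · rfl

theorem ordFrac_isUnit {R : Type u} [CommRing R] {K : Type u} [Field K] [Algebra R K] {a : R} (ha : IsUnit a) :
    CycAlg.ordFrac R K (algebraMap R K a) = 0 := by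
  unfold CycAlg.ordFrac
  split
  · next h =>
    haveI := h.1; haveI := h.2.1; haveI := h.2.2.1; haveI := h.2.2.2
    haveI : IsDomain R := (IsFractionRing.injective R K).isDomain
    rw [Ring.ordFrac_of_isUnit ha]
    rfl
  · rfl

section ordAt

variable {ξ x : X} (h : ξ ⤳ x)

theorem ordAt_mul {f g : X.residueField ξ} (hf : f ≠ 0) (hg : g ≠ 0) :
    Cyc.ordAt x ξ h (f * g) = Cyc.ordAt x ξ h f + Cyc.ordAt x ξ h g := ordFrac_mul hf hg

theorem ordAt_one : Cyc.ordAt x ξ h (1 : X.residueField ξ) = 0 := by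
  have h1 := ordAt_mul h (one_ne_zero (α := X.residueField ξ)) one_ne_zero
  rw [one_mul] at h1
  omega

theorem ordAt_inv {f : X.residueField ξ} (hf : f ≠ 0) : Cyc.ordAt x ξ h f⁻¹ = - Cyc.ordAt x ξ h f := by
  have h1 := ordAt_mul h hf (inv_ne_zero hf)
  rw [mul_inv_cancel₀ hf, ordAt_one] at h1
  omega

theorem ordAt_zpow {f : X.residueField ξ} (hf : f ≠ 0) (n : ℤ) :
    Cyc.ordAt x ξ h (f ^ n) = n * Cyc.ordAt x ξ h f := by
  induction n using Int.induction_on with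
  | zero => rw [zpow_zero, ordAt_one, zero_mul]
  | succ k ih => rw [zpow_add_one₀ hf, ordAt_mul h (zpow_ne_zero _ hf) hf, ih]; ring
  | pred k ih =>
    rw [zpow_sub_one₀ hf, ordAt_mul h (zpow_ne_zero _ hf) (inv_ne_zero hf), ih, ordAt_inv h hf]; ring

theorem ordAt_unit {v : X.presheaf.stalk x} (hv : IsUnit v) :
    Cyc.ordAt x ξ h (rdu ξ ((X.presheaf.stalkSpecializes h).hom v)) = 0 :=
  ordFrac_isUnit (R := Cyc.LocQuot x ξ h) (K := X.residueField ξ) (a := Ideal.Quotient.mk _ v) (hv.map _)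

theorem ordAt_mul_unit (f : X.residueField ξ) {v : X.presheaf.stalk x} (hv : IsUnit v) :
    Cyc.ordAt x ξ h (f * rdu ξ ((X.presheaf.stalkSpecializes h).hom v)) = Cyc.ordAt x ξ h f := by
  rcases eq_or_ne f 0 with rfl | hf
  · rw [zero_mul]
  have hu : rdu ξ ((X.presheaf.stalkSpecializes h).hom v) ≠ 0 :=
    ((hv.map (X.presheaf.stalkSpecializes h).hom).map (rdu ξ)).ne_zero
  rw [ordAt_mul h hf hu, ordAt_unit h hv, add_zero]

end ordAt

variable {L : X.Modules} {A : X.Opens} {e : Γ(L, A)} (he : IsGen e)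
include he

/-- Every element of a fibre is a multiple of a local generator. -/
theorem exists_coeff {ξ : X} (hξ : ξ ∈ A) (s : Cyc.secFibre L ξ) :
    ∃ φ : X.presheaf.stalk ξ, s = φ • (Submodule.Quotient.mk (mgerm L hξ e) : Cyc.secFibre L ξ) := by
  obtain ⟨v, rfl⟩ := Submodule.Quotient.mk_surjective _ s
  obtain ⟨φ, rfl⟩ := (bijective_germ_of_isGen he hξ).2 v
  exact ⟨φ, Submodule.Quotient.mk_smul _ _ _⟩

theorem rdu_unique {ξ : X} (hξ : ξ ∈ A) {φ ψ : X.presheaf.stalk ξ}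
    (h : φ • (Submodule.Quotient.mk (mgerm L hξ e) : Cyc.secFibre L ξ) = ψ • Submodule.Quotient.mk (mgerm L hξ e)) :
    rdu ξ φ = rdu ξ ψ := by
  rw [← Submodule.Quotient.mk_smul, ← Submodule.Quotient.mk_smul, Submodule.Quotient.eq, ← sub_smul] at h
  have hmem : ∀ v ∈ (IsLocalRing.maximalIdeal (X.presheaf.stalk ξ) •
      (⊤ : Submodule (X.presheaf.stalk ξ) (L.presheaf.stalk ξ))),
      ∃ c ∈ IsLocalRing.maximalIdeal (X.presheaf.stalk ξ), c • mgerm L hξ e = v := by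
    intro v hv
    refine Submodule.smul_induction_on hv (fun a ha w _ => ?_) fun v w ⟨c, hc, ec⟩ ⟨d, hd, ed⟩ =>
      ⟨c + d, Ideal.add_mem _ hc hd, by rw [add_smul, ec, ed]⟩
    obtain ⟨b, rfl⟩ := (bijective_germ_of_isGen he hξ).2 w
    exact ⟨a * b, Ideal.mul_mem_right _ _ ha, mul_smul a b _⟩
  obtain ⟨c, hc, ec⟩ := hmem _ h
  have h2 : φ - ψ = c := (bijective_germ_of_isGen he hξ).1 ec.symm
  rw [← sub_eq_zero, ← map_sub, h2]
  exact Ideal.Quotient.eq_zero_iff_mem.2 hc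

theorem rdu_ne_zero {ξ : X} (hξ : ξ ∈ A) {s : Cyc.secFibre L ξ} (hs : s ≠ 0) {φ : X.presheaf.stalk ξ}
    (h : s = φ • (Submodule.Quotient.mk (mgerm L hξ e) : Cyc.secFibre L ξ)) : rdu ξ φ ≠ 0 := by
  intro h0
  refine hs ?_
  rw [h, ← Submodule.Quotient.mk_smul, Submodule.Quotient.mk_eq_zero]
  exact Submodule.smul_mem_smul (Ideal.Quotient.eq_zero_iff_mem.1 h0) Submodule.mem_top

/-- The order computed with any local generator. -/
theorem secOrdAt_eq {ξ x : X} (h : ξ ⤳ x) (hx : x ∈ A) {s : Cyc.secFibre L ξ} {φ : X.presheaf.stalk ξ}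
    (hs : s = φ • (Submodule.Quotient.mk (mgerm L (h.mem_open A.2 hx) e) : Cyc.secFibre L ξ)) :
    Cyc.secOrdAt L ξ x h s = Cyc.ordAt x ξ h (rdu ξ φ) := by
  classical
  have hξ : ξ ∈ A := h.mem_open A.2 hx
  have hb := bijective_germ_of_isGen he hx
  have ht : ∃ t : L.presheaf.stalk x, Submodule.span (X.presheaf.stalk x) {t} = ⊤ :=
    ⟨_, span_eq_top_of_surjective hb.2⟩
  obtain ⟨v, hv⟩ := hb.2 (Classical.choose ht)
  change v • mgerm L hx e = Classical.choose ht at hv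
  obtain ⟨w, hw⟩ := exists_smul_of_span (Classical.choose_spec ht) (mgerm L hx e)
  have hvu : IsUnit v := by
    refine IsUnit.of_mul_eq_one_right w (hb.1 ?_)
    show (w * v) • mgerm L hx e = (1 : X.presheaf.stalk x) • mgerm L hx e
    rw [mul_smul, hv, hw, one_smul]
  let σ := (X.presheaf.stalkSpecializes h).hom
  have hσu : IsUnit (σ v) := hvu.map σ
  have hsp : (L.presheaf.stalkSpecializes h) (Classical.choose ht) = σ v • mgerm L hξ e := by
    rw [← hv]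
    exact (msp_smul L h v _).trans (congrArg (σ v • ·) (msp_germ L h hx e))
  have hex : ∃ ψ : X.presheaf.stalk ξ, s = ψ • (Submodule.Quotient.mk
      ((L.presheaf.stalkSpecializes h) (Classical.choose ht)) : Cyc.secFibre L ξ) := by
    refine ⟨φ * ↑hσu.unit⁻¹, ?_⟩
    rw [hs, hsp, Submodule.Quotient.mk_smul, smul_smul, mul_assoc, IsUnit.val_inv_mul, mul_one]
  rw [Cyc.secOrdAt, dif_pos ht, dif_pos hex]
  have h1 := hs.symm.trans (Classical.choose_spec hex)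
  have h2 : φ • (Submodule.Quotient.mk (mgerm L hξ e) : Cyc.secFibre L ξ) =
      (Classical.choose hex * σ v) • Submodule.Quotient.mk (mgerm L hξ e) := by
    rw [mul_smul, ← Submodule.Quotient.mk_smul _ (σ v)]
    exact h1.trans (congrArg (fun z => Classical.choose hex • (Submodule.Quotient.mk z : Cyc.secFibre L ξ)) hsp)
  rw [rdu_unique he hξ h2, map_mul]
  exact (ordAt_mul_unit h _ hvu).symm

omit he

theorem germ_tm {M N : X.Modules} {W W₀ : X.Opens} {ξ : X} (hW : ξ ∈ W) (hW₀ : ξ ∈ W₀)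
    {a : Γ(M, W)} {b : Γ(N, W)} {e : Γ(M, W₀)} {f : Γ(N, W₀)} (he : IsGen e) (hf : IsGen f)
    {φ ψ : X.presheaf.stalk ξ} (ha : φ • mgerm M hW₀ e = mgerm M hW a) (hb : ψ • mgerm N hW₀ f = mgerm N hW b) :
    mgerm (CohB1.tensorMod M N) hW (tm a b) = (φ * ψ) • mgerm (CohB1.tensorMod M N) hW₀ (tm e f) := by
  have hO : ξ ∈ W ⊓ W₀ := ⟨hW, hW₀⟩
  obtain ⟨r, hr⟩ := (he (W ⊓ W₀) inf_le_right).2 (res M inf_le_left a)
  obtain ⟨r', hr'⟩ := (hf (W ⊓ W₀) inf_le_right).2 (res N inf_le_left b)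
  change r • res M inf_le_right e = _ at hr
  change r' • res N inf_le_right f = _ at hr'
  have h1 : (X.presheaf.germ (W ⊓ W₀) _ hO).hom r = φ := by
    refine (bijective_germ_of_isGen he hW₀).1 ?_
    show _ • mgerm M hW₀ e = φ • mgerm M hW₀ e
    rw [ha, ← RefDiv.smul_mgerm_res (inf_le_right : W ⊓ W₀ ≤ W₀) hO, hr, mgerm_res]
  have h2 : (X.presheaf.germ (W ⊓ W₀) _ hO).hom r' = ψ := by
    refine (bijective_germ_of_isGen hf hW₀).1 ?_
    show _ • mgerm N hW₀ f = ψ • mgerm N hW₀ f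
    rw [hb, ← RefDiv.smul_mgerm_res (inf_le_right : W ⊓ W₀ ≤ W₀) hO, hr', mgerm_res]
  rw [← h1, ← h2, ← mgerm_res (CohB1.tensorMod M N) (inf_le_left : W ⊓ W₀ ≤ W) hO (tm a b), res_tm, ← hr, ← hr',
    smul_tm, tm_smul, ← res_tm, mgerm_smul, mgerm_smul, mgerm_res, smul_smul]

/-- Two rational sections differ by a rational function on the closure. -/
theorem exists_ratio (hL : PicF.IsInvertible L) {ξ : X} {s t : Cyc.secFibre L ξ} (hs : s ≠ 0) (ht : t ≠ 0) :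
    ∃ ρ : X.residueField ξ, ρ ≠ 0 ∧ ∀ (x : X) (h : ξ ⤳ x),
      Cyc.secOrdAt L ξ x h s - Cyc.secOrdAt L ξ x h t = Cyc.ordAt x ξ h ρ := by
  obtain ⟨A₀, e₀, hξ₀, he₀⟩ := TMul.exists_isGen hL ξ
  obtain ⟨φ₀, hφ₀⟩ := exists_coeff he₀ hξ₀ s
  obtain ⟨ψ₀, hψ₀⟩ := exists_coeff he₀ hξ₀ t
  have hb := rdu_ne_zero he₀ hξ₀ ht hψ₀
  have ha := rdu_ne_zero he₀ hξ₀ hs hφ₀
  refine ⟨rdu ξ φ₀ * (rdu ξ ψ₀)⁻¹, mul_ne_zero ha (inv_ne_zero hb), fun x h => ?_⟩
  obtain ⟨A, e, hx, he⟩ := TMul.exists_isGen hL x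
  obtain ⟨c, hc⟩ := exists_coeff he (h.mem_open A.2 hx)
    (Submodule.Quotient.mk (mgerm L hξ₀ e₀) : Cyc.secFibre L ξ)
  rw [hc, smul_smul] at hφ₀ hψ₀
  have hc0 : rdu ξ c ≠ 0 := fun h0 => rdu_ne_zero he _ hs hφ₀ (by rw [map_mul, h0, mul_zero])
  rw [secOrdAt_eq he h hx hφ₀, secOrdAt_eq he h hx hψ₀, map_mul, map_mul,
    ordAt_mul h ha hc0, ordAt_mul h hb hc0, ordAt_mul h ha (inv_ne_zero hb), ordAt_inv h hb]
  ring

/-- The rational function comparing sections of two modules with one of their tensor product. -/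
theorem exists_ratio_tensor {N : X.Modules} (hL : PicF.IsInvertible L) (hN : PicF.IsInvertible N) {ξ : X}
    {s : Cyc.secFibre L ξ} {t : Cyc.secFibre N ξ} {u : Cyc.secFibre (CohB1.tensorMod L N) ξ}
    (hs : s ≠ 0) (ht : t ≠ 0) (hu : u ≠ 0) :
    ∃ ρ : X.residueField ξ, ρ ≠ 0 ∧ ∀ (x : X) (h : ξ ⤳ x),
      Cyc.secOrdAt L ξ x h s + Cyc.secOrdAt N ξ x h t - Cyc.secOrdAt (CohB1.tensorMod L N) ξ x h u =
        Cyc.ordAt x ξ h ρ := by
  obtain ⟨A₁, e₁, h₁, he₁⟩ := TMul.exists_isGen hL ξ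
  obtain ⟨A₂, f₁, h₂, hf₁⟩ := TMul.exists_isGen hN ξ
  have hξ : ξ ∈ A₁ ⊓ A₂ := ⟨h₁, h₂⟩
  have he₀ := he₁.res (inf_le_left : A₁ ⊓ A₂ ≤ A₁)
  have hf₀ := hf₁.res (inf_le_right : A₁ ⊓ A₂ ≤ A₂)
  obtain ⟨a, ha⟩ := exists_coeff he₀ hξ s
  obtain ⟨b, hb⟩ := exists_coeff hf₀ hξ t
  obtain ⟨c, hc⟩ := exists_coeff (isGen_tm he₀ hf₀) hξ u
  have ha0 := rdu_ne_zero he₀ hξ hs ha
  have hb0 := rdu_ne_zero hf₀ hξ ht hb
  have hc0 := rdu_ne_zero (isGen_tm he₀ hf₀) hξ hu hc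
  refine ⟨rdu ξ a * rdu ξ b * (rdu ξ c)⁻¹, mul_ne_zero (mul_ne_zero ha0 hb0) (inv_ne_zero hc0), fun x h => ?_⟩
  obtain ⟨B₁, e', hx₁, he'⟩ := TMul.exists_isGen hL x
  obtain ⟨B₂, f', hx₂, hf'⟩ := TMul.exists_isGen hN x
  have hx : x ∈ B₁ ⊓ B₂ := ⟨hx₁, hx₂⟩
  have he := he'.res (inf_le_left : B₁ ⊓ B₂ ≤ B₁)
  have hf := hf'.res (inf_le_right : B₁ ⊓ B₂ ≤ B₂)
  have hξx : ξ ∈ B₁ ⊓ B₂ := h.mem_open (B₁ ⊓ B₂).2 hx
  obtain ⟨p, hp⟩ := (bijective_germ_of_isGen he hξx).2 (mgerm L hξ (res L inf_le_left e₁))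
  obtain ⟨q, hq⟩ := (bijective_germ_of_isGen hf hξx).2 (mgerm N hξ (res N inf_le_right f₁))
  have hpq := germ_tm hξ hξx he hf hp hq
  rw [← hp, Submodule.Quotient.mk_smul, smul_smul] at ha
  rw [← hq, Submodule.Quotient.mk_smul, smul_smul] at hb
  rw [hpq, Submodule.Quotient.mk_smul, smul_smul] at hc
  have hp0 : rdu ξ p ≠ 0 := fun h0 => rdu_ne_zero he _ hs ha (by rw [map_mul, h0, mul_zero])
  have hq0 : rdu ξ q ≠ 0 := fun h0 => rdu_ne_zero hf _ ht hb (by rw [map_mul, h0, mul_zero])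
  rw [secOrdAt_eq he h hx ha, secOrdAt_eq hf h hx hb, secOrdAt_eq (isGen_tm he hf) h hx hc, map_mul, map_mul,
    map_mul, map_mul, ordAt_mul h ha0 hp0, ordAt_mul h hb0 hq0, ordAt_mul h hc0 (mul_ne_zero hp0 hq0),
    ordAt_mul h hp0 hq0, ordAt_mul h (mul_ne_zero ha0 hb0) (inv_ne_zero hc0), ordAt_mul h ha0 hb0,
    ordAt_inv h hc0]
  ring

/-- Only finitely many points of the support of a cycle specialise to a given point. -/
theorem finite_gen (α : AlgebraicCycle X ℤ) (x : X) : {ξ : X | ξ ⤳ x ∧ α ξ ≠ 0}.Finite := by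
  obtain ⟨t, ht, hfin⟩ := α.supportLocallyFiniteWithinDomain' x trivial
  obtain ⟨O, hOt, hO, hxO⟩ := mem_nhds_iff.1 ht
  exact hfin.subset fun ξ hξ => ⟨hOt (hξ.1.mem_open hO hxO), hξ.2⟩

/-- A cycle whose coefficients are sums of orders of rational functions on the closures of the support of a cycle
is rationally equivalent to zero. -/
theorem ratEquivZero (δ : X → ℤ) (k : ℤ) (α : AlgebraicCycle X ℤ) (hα : α ∈ Cyc.Zk X δ (k + 1))
    (γ : AlgebraicCycle X ℤ) (G : X → X → ℤ) (hγ : ∀ x, γ x = ∑ᶠ ξ, α ξ * G ξ x)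
    (H : ∀ ξ : X, α ξ ≠ 0 → ∃ ρ : X.residueField ξ, ρ ≠ 0 ∧ ∀ x : X, Cyc.divFun δ ξ ρ x = G ξ x) :
    Cyc.RatEquivZero δ k γ := by
  classical
  choose ρ hρ0 hρ using H
  refine ⟨{ξ : X // α ξ ≠ 0}, fun i => i.1, fun i => ρ i.1 i.2 ^ α i.1, fun i => ?_, fun i => zpow_ne_zero _ (hρ0 _ _),
    fun x => ?_, fun x => ?_⟩
  · by_contra hne
    exact i.2 (hα i.1 hne)
  · obtain ⟨t, ht, hfin⟩ := α.supportLocallyFiniteWithinDomain' x trivial
    obtain ⟨O, hOt, hO, hxO⟩ := mem_nhds_iff.1 ht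
    refine ⟨O, hO, hxO, (hfin.preimage Subtype.val_injective.injOn).subset ?_⟩
    rintro ⟨ξ, hξ⟩ ⟨z, hz, hzO⟩
    exact ⟨hOt ((specializes_iff_mem_closure.2 hz).mem_open hO hzO), hξ⟩
  · rw [hγ x]
    have h1 : (∑ᶠ ξ, α ξ * G ξ x) = ∑ᶠ ξ ∈ {ξ : X | α ξ ≠ 0}, α ξ * G ξ x := by
      rw [← finsum_mem_inter_support (fun ξ => α ξ * G ξ x) {ξ : X | α ξ ≠ 0},
        Set.inter_eq_right.2 (show Function.support (fun ξ => α ξ * G ξ x) ⊆ {ξ : X | α ξ ≠ 0} from fun ξ hξ e => hξ (by simp [e])),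
        finsum_mem_support]
    rw [h1, ← finsum_subtype_eq_finsum_cond]
    refine finsum_congr fun i => ?_
    rw [← hρ i.1 i.2 x]
    unfold Cyc.divFun
    split
    · next h => rw [ordAt_zpow h.1 (hρ0 _ _)]
    · rw [mul_zero]

theorem finite_cap (δ : X → ℤ) (L : X.Modules) (α : AlgebraicCycle X ℤ) (s : (ξ : X) → Cyc.secFibre L ξ) (x : X) :
    (Function.support fun ξ => α ξ * Cyc.secDivFun δ L ξ (s ξ) x).Finite := by
  classical
  refine (finite_gen α x).subset fun ξ hξ => ⟨?_, fun e => hξ (by simp [e])⟩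
  by_contra hne
  exact hξ (by simp [Cyc.secDivFun, dif_neg (fun h : ξ ⤳ x ∧ _ => hne h.1)])

/-- The cap does not depend on the sections up to rational equivalence. -/
theorem ratEquiv_cap (δ : X → ℤ) (hL : PicF.IsInvertible L) (k : ℤ) (α : AlgebraicCycle X ℤ)
    (hα : α ∈ Cyc.Zk X δ (k + 1)) (s t : (ξ : X) → Cyc.secFibre L ξ) (hs : ∀ ξ, α ξ ≠ 0 → s ξ ≠ 0)
    (ht : ∀ ξ, α ξ ≠ 0 → t ξ ≠ 0) (γ₁ γ₂ : AlgebraicCycle X ℤ) (h₁ : ⇑γ₁ = Cyc.c1CapFun δ L ⇑α s)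
    (h₂ : ⇑γ₂ = Cyc.c1CapFun δ L ⇑α t) : Cyc.RatEquiv δ k γ₁ γ₂ := by
  classical
  refine ratEquivZero δ k α hα _ (fun ξ x => Cyc.secDivFun δ L ξ (s ξ) x - Cyc.secDivFun δ L ξ (t ξ) x)
    (fun x => ?_) fun ξ hξ => ?_
  · show γ₁ x - γ₂ x = _
    rw [h₁, h₂]
    refine (finsum_sub_distrib (finite_cap δ L α s x) (finite_cap δ L α t x)).symm.trans ?_
    exact finsum_congr fun ξ => (mul_sub _ _ _).symm
  · obtain ⟨ρ, hρ, h⟩ := exists_ratio hL (hs ξ hξ) (ht ξ hξ)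
    refine ⟨ρ, hρ, fun x => ?_⟩
    unfold Cyc.secDivFun Cyc.divFun
    split
    · next hx => exact (h x hx.1).symm
    · rw [sub_zero]

end Groth.Agent.C1Cap
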