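import Groth.Agent.C1Cap.Basic
import Groth.Agent.P1Div.StalkLoc
import Groth.Agent.P1Div.SheafFibre
import Groth.Agent.CycDim.PullDiv
import Groth.Agent.CycDim.RatBasic
import Mathlib

/-!
The cap of the cycle of a coherent module with a regular section, through lengths.
-/

set_option autoImplicit false
set_option linter.style.haveILetI false
set_option backward.isDefEq.respectTransparency false

universe u

open CategoryTheory AlgebraicGeometry TopologicalSpace Opposite IsLocalRing
open Groth.Agent.CDivNormal (genPrime)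
open Groth.Agent.WeakAssLib (mgerm)
open Groth.Agent.RefStalk (msp msp_germ msp_smul)
open Groth.Agent.CycDim (coef Coker spz)
open TMul (IsGen)
open scoped Pointwise TensorProduct

noncomputable section

namespace Groth.Agent.C1Cap

variable {X : Scheme.{u}} [IsLocallyNoetherian X]

/-- The coefficient of the cap at a point is a length. -/
theorem capFun_eq_length {δ : X → ℤ} (hδ : Cyc.IsDimFun X δ) (k : ℤ) (F : X.Modules) [hq : Coh.IsQCoh F]
    (hft : CohB1.IsFT F) (hdim : ∀ x : X, Nontrivial (F.presheaf.stalk x) → δ x ≤ k + 1)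
    {L : X.Modules} {A : X.Opens} {e : Γ(L, A)} (he : IsGen e) {x : X} (hx : x ∈ A) (hxk : δ x = k)
    (f : X.presheaf.stalk x) (v : (ξ : X) → Cyc.secFibre L ξ)
    (hv : ∀ ξ (h : ξ ⤳ x), Nontrivial (F.presheaf.stalk ξ) → δ ξ = k + 1 → f ∉ genPrime h ∧
      v ξ = spz h f • (Submodule.Quotient.mk (mgerm L (h.mem_open A.2 hx) e) : Cyc.secFibre L ξ))
    (hass : ∀ m : F.presheaf.stalk x, f • m = 0 → m = 0) :
    Cyc.c1CapFun δ L (Cyc.sheafFun δ (k + 1) F) v x =
      ((Module.length (X.presheaf.stalk x) (Coker f (F.presheaf.stalk x))).toNat : ℤ) := by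
  classical
  rw [P1Div.length_coker_eq_sum F hft hδ hxk (fun z _ hn => hdim z hn) (fun z hz hn hzk => (hv z hz hn hzk).1) hass]
  refine Eq.symm ?_
  refine ((finsum_congr fun ξ => ?_).trans (finsum_subtype_eq_finsum_cond
    (f := fun ω => Cyc.sheafFun δ (k + 1) F ω * Cyc.secDivFun δ L ω (v ω) x)
    (fun ω => ω ⤳ x ∧ δ ω = k + 1))).trans (finsum_congr fun ω => ?_)
  · obtain ⟨ξ, hξ, hξk⟩ := ξ
    show _ = Cyc.sheafFun δ (k + 1) F ξ * _
    rw [Cyc.sheafFun, if_pos hξk]
    by_cases hn : Nontrivial (F.presheaf.stalk ξ)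
    · obtain ⟨hf, hvξ⟩ := hv ξ hξ hn hξk
      have hd : δ x + 1 = δ ξ := by rw [hξk, hxk]
      congr 1
      rw [Cyc.secDivFun, dif_pos ⟨hξ, hd⟩, secOrdAt_eq he hξ hx hvξ,
        CycPull.ordAt_eq_length hδ hξ hd.ge hf]
      rfl
    · haveI := not_nontrivial_iff_subsingleton.1 hn
      rw [Module.length_eq_zero]
      simp
  · rw [finsum_eq_if]
    split
    · rfl
    · next hne =>
      by_contra h
      refine hne ⟨?_, ?_⟩
      · by_contra hs
        exact h (by rw [Cyc.secDivFun, dif_neg fun hc => hs hc.1, mul_zero])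
      · by_contra hk
        exact h (by rw [Cyc.sheafFun, if_neg hk, zero_mul])

omit [IsLocallyNoetherian X] in
theorem mk_gen_ne_zero {L : X.Modules} {A : X.Opens} {e : Γ(L, A)} (he : IsGen e) {ξ : X} (hξ : ξ ∈ A)
    {φ : X.presheaf.stalk ξ} (hφ : IsUnit φ) :
    (Submodule.Quotient.mk (φ • mgerm L hξ e) : Cyc.secFibre L ξ) ≠ 0 := by
  intro h0
  have h1 := rdu_unique he hξ (φ := φ) (ψ := 0) (by rw [← Submodule.Quotient.mk_smul, h0, zero_smul])
  rw [map_zero] at h1
  exact (hφ.map (rdu ξ)).ne_zero h1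

variable {D : Scheme.{u}}

/-- The pull back of a module along a closed immersion cut out by one equation. -/
theorem length_pullback_closed (i : D ⟶ X) [IsClosedImmersion i] (F : X.Modules) (d : D) {f : X.presheaf.stalk (i d)}
    (hf : RingHom.ker (i.stalkMap d).hom = Ideal.span {f}) :
    Module.length (D.presheaf.stalk d) (((Scheme.Modules.pullback i).obj F).presheaf.stalk d) =
      Module.length (X.presheaf.stalk (i d)) (Coker f (F.presheaf.stalk (i d))) := by
  letI := (i.stalkMap d).hom.toAlgebra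
  exact ((Groth.Agent.KFlat.pullStalkIso i d).app F).toLinearEquiv.length_eq.trans
    (P1Div.length_baseChange_quot (i.stalkMap_surjective d) hf (F.presheaf.stalk (i d)))

/-- The Gysin image of the cycle of a module is the cycle of its restriction. -/
theorem gysin_sheafFun {δ : X → ℤ} (hδ : Cyc.IsDimFun X δ) {L : X.Modules} (hL : PicF.IsInvertible L)
    (s : L.presheaf.obj (Opposite.op ⊤)) (i : D ⟶ X) [IsClosedImmersion i] (hD : Cyc.IsZeroSchemeOf i L s) (k : ℤ)
    (F : X.Modules) [hq : Coh.IsQCoh F] (hft : CohB1.IsFT F)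
    (hdim : ∀ x : X, Nontrivial (F.presheaf.stalk x) → δ x ≤ k + 1)
    (hreg : ∀ (x : X) (t : L.presheaf.stalk x) (f : X.presheaf.stalk x),
      Submodule.span (X.presheaf.stalk x) {t} = ⊤ → (L.presheaf.germ ⊤ x trivial) s = f • t →
        Function.Injective (fun m : F.presheaf.stalk x => f • m))
    (w : (ξ : X) → Cyc.secFibre L ξ) (d : D) :
    Cyc.c1CapFun δ L (Cyc.sheafFun δ (k + 1) F) (Cyc.gysinChoice L s w) (i d) =
      Cyc.sheafFun (fun d => δ (i d)) k ((Scheme.Modules.pullback i).obj F) d := by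
  classical
  by_cases hk : δ (i d) = k
  swap
  · rw [Cyc.sheafFun, if_neg hk, Cyc.c1CapFun]
    refine finsum_eq_zero_of_forall_eq_zero fun ξ => ?_
    by_contra h
    obtain ⟨h1, h2⟩ := ne_zero_and_ne_zero_of_mul h
    have hξ : δ ξ = k + 1 := by
      by_contra h'
      exact h1 (by rw [Cyc.sheafFun, if_neg h'])
    have hd : ξ ⤳ i d ∧ δ (i d) + 1 = δ ξ := by
      by_contra h'
      exact h2 (by rw [Cyc.secDivFun, dif_neg h'])
    omega
  obtain ⟨t, f₀, ht, hs, hker⟩ := hD.2 d
  obtain ⟨A, e, hx, he⟩ := TMul.exists_isGen hL (i d)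
  have hb := RefDiv.bijective_germ_of_isGen he hx
  obtain ⟨c, hc⟩ := hb.2 t
  change c • mgerm L hx e = t at hc
  obtain ⟨b, hbt⟩ := RefDiv.exists_smul_of_span ht (mgerm L hx e)
  have hcu : IsUnit c := by
    refine IsUnit.of_mul_eq_one_right b (hb.1 ?_)
    show (b * c) • mgerm L hx e = (1 : X.presheaf.stalk (i d)) • mgerm L hx e
    rw [mul_smul, hc, hbt, one_smul]
  have hsf : (L.presheaf.germ ⊤ (i d) trivial) s = (f₀ * c) • mgerm L hx e := by
    rw [hs, mul_smul, hc]
  have hker' : RingHom.ker (i.stalkMap d).hom = Ideal.span {f₀ * c} := by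
    rw [hker, Ideal.span_singleton_mul_right_unit hcu]
  have hspan : Submodule.span (X.presheaf.stalk (i d)) {mgerm L hx e} = ⊤ :=
    RefDiv.span_eq_top_of_surjective hb.2
  have hv : ∀ ξ (h : ξ ⤳ i d), Nontrivial (F.presheaf.stalk ξ) → δ ξ = k + 1 → f₀ * c ∉ genPrime h ∧
      Cyc.gysinChoice L s w ξ =
        spz h (f₀ * c) • (Submodule.Quotient.mk (mgerm L (h.mem_open A.2 hx) e) : Cyc.secFibre L ξ) := by
    intro ξ h hn hξk
    have hξA : ξ ∈ A := h.mem_open A.2 hx
    have hsξ : (L.presheaf.germ ⊤ ξ trivial) s = spz h (f₀ * c) • mgerm L hξA e := by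
      have h1 := congrArg (msp L h) hsf
      rw [msp_smul, msp_germ L h hx e] at h1
      exact (msp_germ L h (show i d ∈ (⊤ : X.Opens) from trivial) s).symm.trans h1
    have hinj := hreg ξ _ (spz h (f₀ * c))
      (RefDiv.span_eq_top_of_surjective (RefDiv.bijective_germ_of_isGen he hξA).2) hsξ
    have hu : IsUnit (spz h (f₀ * c)) := by
      by_contra hu
      haveI := SupportLib.finite_stalk F hft ξ
      haveI hfl : IsFiniteLength (X.presheaf.stalk ξ) (F.presheaf.stalk ξ) :=
        Module.length_ne_top_iff.1 (CycDim.length_stalk_module_lt_top F hq hft fun y hny hy =>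
          CycDim.eq_of_delta_le hδ hy (by have := hdim y hny; omega)).ne
      haveI := (isFiniteLength_iff_isNoetherian_isArtinian.1 hfl).2
      have hsurj := IsArtinian.surjective_of_injective_endomorphism
        (LinearMap.lsmul (X.presheaf.stalk ξ) (F.presheaf.stalk ξ) (spz h (f₀ * c))) hinj
      refine Submodule.top_ne_pointwise_smul_of_mem_jacobson_annihilator (M := F.presheaf.stalk ξ)
        (IsLocalRing.maximalIdeal_le_jacobson _ ((mem_maximalIdeal _).2 hu))
        (Eq.symm (top_le_iff.1 fun m _ => ?_))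
      obtain ⟨m', rfl⟩ := hsurj m
      exact Submodule.smul_mem_pointwise_smul m' _ _ Submodule.mem_top
    refine ⟨fun hm => hm hu, ?_⟩
    rw [Cyc.gysinChoice, if_pos (by rw [hsξ]; exact mk_gen_ne_zero he hξA hu), hsξ, Submodule.Quotient.mk_smul]
  rw [capFun_eq_length hδ k F hft hdim he hx hk (f₀ * c) _ hv fun m hm => ?_]
  · rw [Cyc.sheafFun, if_pos hk, length_pullback_closed i F d hker']
  · exact hreg (i d) _ (f₀ * c) hspan hsf (hm.trans (smul_zero (f₀ * c)).symm)

end Groth.Agent.C1Cap
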