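import Groth.Agent.C1Cap.Gysin
import Groth.Agent.C1Cap.PullGen
import Groth.Agent.CycDim.SheafCycle
import Groth.Agent.P1Div.SubFibre
import Groth.Agent.S1918
import Mathlib

/-!
The zero scheme of a section of an invertible module on a closed subscheme and the first Chern class.
-/

set_option autoImplicit false
set_option linter.style.haveILetI false
set_option backward.isDefEq.respectTransparency false

universe u

open CategoryTheory AlgebraicGeometry TopologicalSpace Opposite IsLocalRing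
open Groth.Agent.CDivNormal (genPrime)
open Groth.Agent.WeakAssLib (mgerm)
open Groth.Agent.RefStalk (msp msp_germ msp_smul)
open Groth.Agent.CycDim (coef Coker spz)
open Groth.Agent.KFlat (kap kap_smul)
open TMul (IsGen)
open scoped Pointwise TensorProduct

noncomputable section

namespace Groth.Agent.C1Cap

variable {X Y : Scheme.{u}}

/-- Elements of stalks of an inverse image along a closed immersion lift. -/
theorem exists_kap_eq (ι : Y ⟶ X) [IsClosedImmersion ι] {L : X.Modules} {A : X.Opens} {e : Γ(L, A)}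
    (he : IsGen e) {y : Y} (hy : ι y ∈ A) (v : ((Scheme.Modules.pullback ι).obj L).presheaf.stalk y) :
    ∃ c : X.presheaf.stalk (ι y), kap ι y L (c • mgerm L hy e) = v := by
  obtain ⟨φ, rfl⟩ := (RefDiv.bijective_germ_of_isGen (isGen_eta ι he) (show y ∈ ι ⁻¹ᵁ A from hy)).2 v
  obtain ⟨c, rfl⟩ := ι.stalkMap_surjective y φ
  refine ⟨c, (kap_smul ι y L c _).trans ?_⟩
  rw [kap_mgerm ι L hy e]

/-- The first Chern class of a closed subscheme and the zero scheme of a section. -/
theorem cap_subscheme_eq [IsLocallyNoetherian X] {δ : X → ℤ} (hδ : Cyc.IsDimFun X δ) (hX : Cyc.IsSetup X δ)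
    {L : X.Modules} (hL : PicF.IsInvertible L) (ι : Y ⟶ X) [IsClosedImmersion ι] (k : ℤ)
    (hY : ∀ y : Y, δ (ι y) ≤ k + 1) (s : ((Scheme.Modules.pullback ι).obj L).presheaf.obj (Opposite.op ⊤))
    (hreg : ∀ y : Y, δ (ι y) = k → Function.Injective (fun a : Y.presheaf.stalk y =>
      a • (((Scheme.Modules.pullback ι).obj L).presheaf.germ ⊤ y trivial) s))
    (v : (ξ : X) → Cyc.secFibre L ξ)
    (hv : ∀ η : Y, δ (ι η) = k + 1 → v (ι η) ≠ 0 ∧ ∃ m : L.presheaf.stalk (ι η),
      v (ι η) = Submodule.Quotient.mk m ∧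
        kap ι η L m = (((Scheme.Modules.pullback ι).obj L).presheaf.germ ⊤ η trivial) s) :
    (∀ y : Y, Cyc.c1CapFun δ L (Cyc.subschemeFun δ (k + 1) ι) v (ι y) =
        Cyc.zeroSectionFun (fun y => δ (ι y)) k ((Scheme.Modules.pullback ι).obj L) s y) ∧
      ∀ x, x ∉ Set.range ⇑ι → Cyc.c1CapFun δ L (Cyc.subschemeFun δ (k + 1) ι) v x = 0 := by
  classical
  haveI : IsLocallyNoetherian Y := LocallyOfFiniteType.isLocallyNoetherian ι
  have hcoh : Coh.IsCoh ((Coh.push ι).obj (Coh.structureModule Y)) := by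
    haveI := (Groth.Agent.RefStalk.isCoh_structureModule (X := Y)).1
    exact Groth.Agent.QC.isCoh_pushforward_of_isFinite ι (Groth.Agent.RefStalk.isCoh_structureModule (X := Y)).2
  haveI := hcoh.1
  have hrange : ∀ p, Nontrivial (((Coh.push ι).obj (Coh.structureModule Y)).presheaf.stalk p) → ∃ z, ι z = p := by
    intro p hp
    by_contra h
    exact not_subsingleton_iff_nontrivial.2 hp
      (Groth.Agent.KFlat.subsingleton_stalk_push ι (Coh.structureModule Y) h)
  have hdim : ∀ p, Nontrivial (((Coh.push ι).obj (Coh.structureModule Y)).presheaf.stalk p) → δ p ≤ k + 1 :=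
    fun p hp => by obtain ⟨z, rfl⟩ := hrange p hp; exact hY z
  rw [S1899.result X Y δ hX ι (k + 1) hY]
  have hzero : ∀ x, (x ∉ Set.range ⇑ι ∨ δ x ≠ k) →
      Cyc.c1CapFun δ L (Cyc.sheafFun δ (k + 1) ((Coh.push ι).obj (Coh.structureModule Y))) v x = 0 := by
    intro x hx
    refine finsum_eq_zero_of_forall_eq_zero fun ξ => ?_
    by_contra h
    obtain ⟨h1, h2⟩ := ne_zero_and_ne_zero_of_mul h
    have hξ : δ ξ = k + 1 := by
      by_contra h'
      exact h1 (by rw [Cyc.sheafFun, if_neg h'])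
    have hd : ξ ⤳ x ∧ δ x + 1 = δ ξ := by
      by_contra h'
      exact h2 (by rw [Cyc.secDivFun, dif_neg h'])
    rcases hx with hx | hx
    · refine h1 ?_
      have hns : Subsingleton (((Coh.push ι).obj (Coh.structureModule Y)).presheaf.stalk ξ) := by
        refine Groth.Agent.KFlat.subsingleton_stalk_push ι (Coh.structureModule Y) ?_
        rintro ⟨η, hη⟩
        exact hx (hd.1.mem_closed ι.isClosedEmbedding.isClosed_range ⟨η, hη⟩)
      rw [Cyc.sheafFun, if_pos hξ, Module.length_eq_zero]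
      rfl
    · omega
  refine ⟨fun y => ?_, fun x hx => hzero x (Or.inl hx)⟩
  by_cases hk : δ (ι y) = k
  swap
  · rw [hzero _ (Or.inr hk), Cyc.zeroSectionFun, if_neg hk]
  obtain ⟨A, e, hx, he⟩ := TMul.exists_isGen hL (ι y)
  let L' := (Scheme.Modules.pullback ι).obj L
  let e' : Γ(L', ι ⁻¹ᵁ A) := ProjMor.eta ι L A e
  have hy : y ∈ ι ⁻¹ᵁ A := hx
  have he' : IsGen e' := isGen_eta ι he
  obtain ⟨c, hc⟩ := exists_kap_eq ι he hx ((L'.presheaf.germ ⊤ y trivial) s)
  have hsy : (L'.presheaf.germ ⊤ y trivial) s = (ι.stalkMap y).hom c • mgerm L' hy e' := by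
    rw [← hc, kap_smul, kap_mgerm ι L hx e]
  have hv' : ∀ ξ (h : ξ ⤳ ι y), Nontrivial (((Coh.push ι).obj (Coh.structureModule Y)).presheaf.stalk ξ) →
      δ ξ = k + 1 → c ∉ genPrime h ∧
        v ξ = spz h c • (Submodule.Quotient.mk (mgerm L (h.mem_open A.2 hx) e) : Cyc.secFibre L ξ) := by
    intro ξ h hn hξk
    obtain ⟨η, rfl⟩ := hrange ξ hn
    have hηy : η ⤳ y := ι.isClosedEmbedding.isInducing.specializes_iff.1 h
    have hA : ι η ∈ A := h.mem_open A.2 hx
    obtain ⟨hne, m, hm, hkm⟩ := hv η hξk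
    obtain ⟨b, rfl⟩ := (RefDiv.bijective_germ_of_isGen he hA).2 m
    have hsη : (L'.presheaf.germ ⊤ η trivial) s =
        (ι.stalkMap η).hom (spz h c) • mgerm L' (show η ∈ ι ⁻¹ᵁ A from hA) e' := by
      have h1 := congrArg (msp L' hηy) hsy
      rw [msp_smul, msp_germ L' hηy hy e'] at h1
      refine ((msp_germ L' hηy (show y ∈ (⊤ : Y.Opens) from trivial) s).symm.trans h1).trans ?_
      exact congrArg (· • mgerm L' (show η ∈ ι ⁻¹ᵁ A from hA) e')
        (Scheme.Hom.stalkSpecializes_stalkMap_apply ι η y hηy c).symm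
    have hb : (ι.stalkMap η).hom b = (ι.stalkMap η).hom (spz h c) := by
      refine (RefDiv.bijective_germ_of_isGen he' (show η ∈ ι ⁻¹ᵁ A from hA)).1 ?_
      refine Eq.trans ?_ hsη
      rw [← hkm]
      show _ = kap ι η L (b • mgerm L hA e)
      rw [kap_smul, kap_mgerm ι L hA e]
    have hres : rdu (ι η) b = rdu (ι η) (spz h c) := by
      rw [← sub_eq_zero, ← map_sub]
      refine Ideal.Quotient.eq_zero_iff_mem.2 ((mem_maximalIdeal _).2 fun hu => not_isUnit_zero (M₀ := Y.presheaf.stalk η) ?_)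
      have := hu.map (ι.stalkMap η).hom
      rwa [map_sub, hb, sub_self] at this
    have hvξ : v (ι η) = spz h c • (Submodule.Quotient.mk (mgerm L hA e) : Cyc.secFibre L (ι η)) := by
      rw [hm, ← Submodule.Quotient.mk_smul, Submodule.Quotient.eq, ← sub_smul]
      refine Submodule.smul_mem_smul (Ideal.Quotient.eq_zero_iff_mem.1 ?_) Submodule.mem_top
      show rdu (ι η) _ = 0
      rw [map_sub, hres, sub_self]
    refine ⟨fun hu => rdu_ne_zero he hA hne hvξ (Ideal.Quotient.eq_zero_iff_mem.2 ((mem_maximalIdeal _).2 hu)), hvξ⟩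
  have hass : ∀ m : ((Coh.push ι).obj (Coh.structureModule Y)).presheaf.stalk (ι y), c • m = 0 → m = 0 := by
    intro m hm
    obtain ⟨f, hf, hfs⟩ := P1Div.exists_semilin ι y
    have h1 : (ι.stalkMap y).hom c * f m = 0 := by rw [← hfs, hm, map_zero]
    refine hf.1 ((map_zero f).symm ▸ hreg y hk ?_)
    show f m • _ = (0 : Y.presheaf.stalk y) • (L'.presheaf.germ ⊤ y trivial) s
    rw [hsy, smul_smul, mul_comm, h1, zero_smul, smul_smul, zero_mul, zero_smul]
  rw [capFun_eq_length hδ k _ hcoh.2 hdim he hx hk c v hv' hass, P1Div.length_coker_push ι y _ rfl]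
  have ht : ∃ t : L'.presheaf.stalk y, Submodule.span (Y.presheaf.stalk y) {t} = ⊤ :=
    ⟨_, RefDiv.span_eq_top_of_surjective (RefDiv.bijective_germ_of_isGen he' hy).2⟩
  obtain ⟨p, hp⟩ := (RefDiv.bijective_germ_of_isGen he' hy).2 (Classical.choose ht)
  change p • mgerm L' hy e' = Classical.choose ht at hp
  obtain ⟨q, hq⟩ := RefDiv.exists_smul_of_span (Classical.choose_spec ht) (mgerm L' hy e')
  have hqp : q * p = 1 := by
    refine (RefDiv.bijective_germ_of_isGen he' hy).1 ?_
    show (q * p) • mgerm L' hy e' = (1 : Y.presheaf.stalk y) • mgerm L' hy e'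
    rw [mul_smul, hp, hq, one_smul]
  have hf : ∃ f : Y.presheaf.stalk y, (L'.presheaf.germ ⊤ y trivial) s = f • Classical.choose ht :=
    ⟨(ι.stalkMap y).hom c * q, by rw [mul_smul, hq]; exact hsy⟩
  rw [Cyc.zeroSectionFun, if_pos hk, dif_pos ht, dif_pos hf]
  have hfc : Classical.choose hf * p = (ι.stalkMap y).hom c := by
    refine (RefDiv.bijective_germ_of_isGen he' hy).1 ?_
    show (Classical.choose hf * p) • mgerm L' hy e' = _
    rw [mul_smul, hp]
    exact (Classical.choose_spec hf).symm.trans hsy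
  have hspan : Ideal.span {Classical.choose hf} = Ideal.span {(ι.stalkMap y).hom c} := by
    rw [← hfc, Ideal.span_singleton_mul_right_unit (IsUnit.of_mul_eq_one_right q hqp)]
  refine congrArg (fun n : ℕ∞ => (n.toNat : ℤ)) ?_
  rw [hspan]
  let ψ : X.presheaf.stalk (ι y) →+* Y.presheaf.stalk y ⧸ Ideal.span {(ι.stalkMap y).hom c} :=
    (Ideal.Quotient.mk _).comp (P1Div.stkHom ι y rfl)
  have hst : ∀ a, P1Div.stkHom ι y rfl a = (ι.stalkMap y).hom a := fun a => by
    simp [P1Div.stkHom, TopCat.Presheaf.stalkSpecializes_refl]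
  have hsurj : Function.Surjective (P1Div.stkHom ι y (rfl : ι y = ι y)) := fun b => by
    obtain ⟨a, ha⟩ := ι.stalkMap_surjective y b
    exact ⟨a, (hst a).trans ha⟩
  have hψ : Function.Surjective ψ := Ideal.Quotient.mk_surjective.comp hsurj
  have hk : RingHom.ker ψ = RingHom.ker (P1Div.stkHom ι y (rfl : ι y = ι y)) ⊔ Ideal.span {c} := by
    rw [← RingHom.comap_ker, Ideal.mk_ker, ← hst c, ← Set.image_singleton, ← Ideal.map_span,
      Ideal.comap_map_of_surjective _ hsurj, sup_comm]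
    rfl
  rw [← hk, Module.length_eq_of_surjective (R := Y.presheaf.stalk y ⧸ Ideal.span {(ι.stalkMap y).hom c})
    (S := Y.presheaf.stalk y) (M := Y.presheaf.stalk y ⧸ Ideal.span {(ι.stalkMap y).hom c}) Ideal.Quotient.mk_surjective,
    ← CycDim.length_congr (RingHom.quotientKerEquivOfSurjective hψ)]
  exact (Module.length_eq_of_surjective (R := ↥(X.presheaf.stalk (ι y)) ⧸ RingHom.ker ψ)
    (M := ↥(X.presheaf.stalk (ι y)) ⧸ RingHom.ker ψ) (S := X.presheaf.stalk (ι y))
    (Ideal.Quotient.mk_surjective (I := RingHom.ker ψ)))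

end Groth.Agent.C1Cap
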